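import Cfsg.Agent.Lib.Sporadic.Co3Mult.Setup
import Cfsg.Agent.Lib.Sporadic.LeechTreeN

/-!
# Elements of `Co₃` given by lists, and their action on vectors
-/

set_option autoImplicit false

namespace Cfsg.Agent.Lib.Sporadic.Co3Mult

open MulAction Cfsg Cfsg.Agent.Lib.Sporadic.GolayCore Cfsg.Agent.Lib.Sporadic.LeechBasic
  Cfsg.Agent.Lib.Sporadic.LeechNorm Cfsg.Agent.Lib.Sporadic.LeechFacts
  Cfsg.Agent.Lib.Sporadic.LeechAut Cfsg.Agent.Lib.Sporadic.LeechMat
  Cfsg.Agent.Lib.Sporadic.LeechKey Cfsg.Agent.Lib.Sporadic.LeechMonomial Cfsg.Agent.Lib.Sporadic.LeechAct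
  Cfsg.Agent.Lib.Sporadic.LeechGroups Cfsg.Agent.Lib.Sporadic.LeechShape
  Cfsg.Agent.Lib.Sporadic.LeechTree Cfsg.Agent.Lib.Sporadic.M24Chain

/-! ### Elements of `M₂₃` -/

/-- The inverse of a table. -/
def invP (T : List ℕ) : List ℕ := (List.range 24).map fun j => T.idxOf j

/-- The check of a table. -/
def okK (T : List ℕ) : Bool :=
  goodT T && (List.range 24).all (fun i => (invP T).getD (T.getD i 0) 0 == i) && (T.getD 23 0 == 23) &&
    (invP T).all (fun t => Nat.blt t 24)

theorem okK_good {T : List ℕ} (h : okK T = true) : goodT T = true := by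
  simp only [okK, Bool.and_eq_true] at h
  exact h.1.1.1

theorem okK_inv {T : List ℕ} (h : okK T = true) : (List.range 24).all (fun i => (invP T).getD (T.getD i 0) 0 == i) = true := by
  simp only [okK, Bool.and_eq_true] at h
  exact h.1.1.2

theorem okK_lt {T : List ℕ} (h : okK T = true) : ∀ t ∈ invP T, t < 24 := by
  simp only [okK, Bool.and_eq_true, List.all_eq_true, Nat.blt_eq] at h
  exact h.2

theorem okK_fix {T : List ℕ} (h : okK T = true) (hg : goodT T = true) : gPerm T hg none = none := by
  simp only [okK, Bool.and_eq_true, beq_iff_eq] at h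
  have h1 := gPerm_pt hg (b := 23) (by norm_num)
  have e : pt 23 = none := rfl
  rw [e, h.1.2, e] at h1
  exact h1

open Classical in
/-- The element of `M₂₃` of a table. -/
noncomputable def kG (T : List ℕ) : ↥G3 :=
  if h : okK T = true then ⟨permCo0 (gPerm T (okK_good h)) (gPerm_mem (okK_good h)), perm_fix_V _ (okK_fix h _)⟩ else 1

theorem kG_mem {T : List ℕ} : kG T ∈ Kc := by
  classical
  unfold kG
  split_ifs with h
  · exact perm_fix_v8 (gPerm_mem (okK_good h)) (okK_fix h _)
  · exact one_mem _

theorem kG_acts {T : List ℕ} (h : okK T = true) : Acts (kG T : Co0) (permL (invP T)) := by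
  classical
  unfold kG
  rw [dif_pos h]
  exact acts_perm (okK_good h) (okK_inv h)

/-! ### Vectors -/

open Classical in
/-- The lattice vector of a list. -/
noncomputable def vl (l : List ℤ) : leechLattice := if h : vecOf l ∈ leechLattice then ⟨vecOf l, h⟩ else 0

theorem vl_eq {l : List ℤ} (h : vecOf l ∈ leechLattice) : vl l = ⟨vecOf l, h⟩ := by
  unfold vl
  rw [dif_pos h]

/-- A list in the lattice. -/
abbrev LV (l : List ℤ) : Prop := vecOf l ∈ leechLattice

theorem acts_vl {g : Co0} {f : List ℤ → List ℤ} (h : Acts g f) {l : List ℤ} (hl : LV l) : g • vl l = vl (f l) := by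
  rw [vl_eq hl, vl_eq (h.mem hl)]
  exact h.smul hl (h.mem hl)

theorem vl_congr {l l' : List ℤ} (h : l = l') : vl l = vl l' := by rw [h]

/-- The vector of the base point. -/
def u8L : List ℤ := rangeL fun i => if i = 23 then 8 else 0

theorem vecOf_u8L : vecOf u8L = Pi.single none 8 := by
  funext p
  unfold u8L
  rw [vecOf_rangeL]
  revert p
  decide

theorem LV_u8L : LV u8L := by
  rw [LV, vecOf_u8L]
  exact v8.2

theorem vl_u8L : vl u8L = v8 := by
  rw [vl_eq LV_u8L]
  exact Subtype.ext vecOf_u8L

/-- The vector `(−1, ..., −1, −5)`. -/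
theorem vl_vL : vl vL = Spor.leechV := by
  have h : LV vL := by
    rw [LV, ← vecV_eq]
    exact Spor.leechV.2
  rw [vl_eq h]
  exact Subtype.ext vecV_eq.symm

/-- The vector with one non-zero coordinate. -/
def eiL (i : ℕ) : List ℤ := rangeL fun j => if j = i then 8 else 0

theorem vecOf_eiL (i : Fin 24) : vecOf (eiL i) = Pi.single (pt i) 8 := by
  funext p
  unfold eiL
  rw [vecOf_rangeL]
  revert p i
  decide

/-- Two elements with the same action on the frame are equal. -/
theorem eq_of_frame {a b : Co0} {f f' : List ℤ → List ℤ} (ha : Acts a f) (hb : Acts b f')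
    (h : ∀ i < 24, f (eiL i) = f' (eiL i)) : a = b := by
  apply co0_ext_u8
  intro p
  have hp : p = pt (idx p) := (pt_idx p).symm
  have hi := idx_lt p
  have e0 : vecOf (eiL (⟨idx p, hi⟩ : Fin 24)) = Pi.single p 8 := by
    rw [vecOf_eiL]
    simp only [pt_idx]
  have hL : LV (eiL (idx p)) := by
    have e1 : vecOf (eiL (idx p)) = Pi.single p 8 := e0
    rw [LV, e1]
    exact (u8 p).2
  have e1 : u8 p = vl (eiL (idx p)) := by
    rw [vl_eq hL]
    exact Subtype.ext e0.symm
  rw [e1, acts_vl ha hL, acts_vl hb hL, h _ hi]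

/-! ### Runs of generators on codes -/

/-- A generator on codes. -/
def GenP (K : Subgroup Co0) (f : ℕ → ℕ) : Prop :=
  ∀ c, vecN c ∈ leechLattice → SameIn K (vecN c) (vecN (f c)) ∧ f c < 32 ^ 24

/-- Permutation on codes. -/
theorem genP_perm {K : Subgroup Co0} {g : Co0} {Ti : List ℕ} (hA : Acts g (permL Ti)) (hg : g ∈ K)
    (hlen : Ti.length = 24) (hlt : ∀ t ∈ Ti, t < 24) : GenP K (fun c => permAux c (Ti.map fun t => 5 * t)) := by
  intro c hc
  have hc' : vecOf (decL c) ∈ leechLattice := by rwa [vecOf_decL]
  have hS := acts_sameIn hA hg (decL c) hc'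
  rw [vecOf_decL] at hS
  have hlen' : (Ti.map fun t => 5 * t).length = 24 := by simp [hlen]
  refine ⟨?_, ?_⟩
  · have e : vecOf (permL Ti (decL c)) = vecN (permAux c (Ti.map fun t => 5 * t)) := by
      funext p
      have hp := idx_lt p
      have hj : idx p < (Ti.map fun t => 5 * t).length := by omega
      have e2 : vecN (permAux c (Ti.map fun t => 5 * t)) p = (dg c ((Ti.map fun t => 5 * t).getD (idx p) 0) : ℤ) - 16 := by
        unfold vecN
        rw [dg_permAux _ _ _ hj]
      rw [e2]
      have hT : idx p < Ti.length := by omega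
      have e3 : (Ti.map fun t => 5 * t).getD (idx p) 0 = 5 * Ti.getD (idx p) 0 := by
        rw [List.getD_eq_getElem _ _ hj, List.getD_eq_getElem _ _ hT]
        simp
      rw [e3]
      have hlt' : Ti.getD (idx p) 0 < 24 := by
        rw [List.getD_eq_getElem _ _ hT]
        exact hlt _ (List.getElem_mem hT)
      unfold permL vecOf
      rw [show (rangeL fun j => (decL c).getD (Ti.getD j 0) 0).getD (idx p) 0 =
        vecOf (rangeL fun j => (decL c).getD (Ti.getD j 0) 0) p from rfl, vecOf_rangeL]
      have e4 : (decL c).getD (Ti.getD (idx p) 0) 0 = vecOf (decL c) (pt (Ti.getD (idx p) 0)) := by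
        unfold vecOf
        rw [idx_pt hlt']
      rw [e4, vecOf_decL]
      unfold vecN
      rw [idx_pt hlt']
    rw [← e]
    exact hS
  · have := permAux_lt c (Ti.map fun t => 5 * t)
    rwa [hlen'] at this

theorem genP_kG {T : List ℕ} (hT : okK T = true) {Q : Subgroup ↥G3} (hQ : kG T ∈ Q) {S : List ℕ}
    (hS : S = (invP T).map fun t => 5 * t) : GenP (Q.map G3.subtype) (fun c => permAux c S) := by
  subst hS
  refine genP_perm (g := (kG T : Co0)) (kG_acts hT) ⟨kG T, hQ, rfl⟩ (by simp [invP]) (okK_lt hT)

/-- Walks through a tree, with a certificate given by a list of chunks. -/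
def runK (gens : List (ℕ → ℕ)) : ℕ → List ℕ → ℕ → List ℕ → BST → Bool
  | 0, _, _, _, _ => true
  | fuel + 1, cs, c, st, t =>
    match st.drop (Nat.mod c 32) with
    | [] => false
    | top :: rest =>
      forceN ((gens.getD (Nat.mod (Nat.div c 32) 16) id) top) fun new =>
        bif t.has new then false
        else
          forceN (Nat.div c 512) fun c' =>
            bif Nat.beq c' 1 then
              match cs with
              | [] => runK gens fuel [] 1 (new :: top :: rest) (t.ins new)
              | d :: ds => runK gens fuel ds d (new :: top :: rest) (t.ins new)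
            else runK gens fuel cs c' (new :: top :: rest) (t.ins new)

theorem runK_soundP {K : Subgroup Co0} {gens : List (ℕ → ℕ)} (H : ∀ f ∈ gens, GenP K f)
    (Qp : (GolayPt → ℤ) → Prop) (hQ : ∀ x y, Qp x → SameIn K x y → Qp y) (fuel : ℕ) (cs : List ℕ) (c : ℕ) (st : List ℕ) (t : BST)
    (h : runK gens fuel cs c st t = true)
    (hst : ∀ l ∈ st, Qp (vecN l) ∧ vecN l ∈ leechLattice ∧ l < 32 ^ 24) :
    ∃ O : List ℕ, O.length = fuel ∧ (∀ l ∈ O, Qp (vecN l) ∧ vecN l ∈ leechLattice ∧ l < 32 ^ 24) ∧
      O.Nodup ∧ (∀ l ∈ O, t.has l = false) := by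
  induction fuel generalizing cs c st t with
  | zero => exact ⟨[], rfl, by simp, by simp, by simp⟩
  | succ fuel ih =>
    simp only [runK, forceN_eq] at h
    cases hd : st.drop (Nat.mod c 32) with
    | nil =>
      rw [hd] at h
      simp at h
    | cons top rest =>
      rw [hd] at h
      simp only at h
      have hsub : ∀ l ∈ top :: rest, l ∈ st := fun l hl => by
        rw [← hd] at hl
        exact List.mem_of_mem_drop hl
      obtain ⟨htop, htopn, htopb⟩ := hst top (hsub top (by simp))
      set new := (gens.getD (Nat.mod (Nat.div c 32) 16) id) top with hnew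
      have hnewS : Qp (vecN new) ∧ vecN new ∈ leechLattice ∧ new < 32 ^ 24 := by
        by_cases hk : Nat.mod (Nat.div c 32) 16 < gens.length
        · have h1 : gens.getD (Nat.mod (Nat.div c 32) 16) id ∈ gens := by
            rw [List.getD_eq_getElem _ _ hk]
            exact List.getElem_mem hk
          obtain ⟨h2, h3⟩ := H _ h1 top htopn
          exact ⟨hQ _ _ htop h2, h2.right_mem, h3⟩
        · have h1 : new = top := by
            rw [hnew, List.getD_eq_default _ _ (by omega)]
            rfl
          rw [h1]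
          exact ⟨htop, htopn, htopb⟩
      cases hq : t.has new with
      | true =>
        rw [hq] at h
        simp at h
      | false =>
        rw [hq] at h
        simp only [cond_false] at h
        have hst' : ∀ l ∈ new :: top :: rest, Qp (vecN l) ∧ vecN l ∈ leechLattice ∧ l < 32 ^ 24 := by
          intro l hl
          rcases List.mem_cons.1 hl with rfl | hl
          · exact hnewS
          · exact hst l (hsub l hl)
        have key : ∃ O : List ℕ, O.length = fuel ∧ (∀ l ∈ O, Qp (vecN l) ∧ vecN l ∈ leechLattice ∧ l < 32 ^ 24) ∧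
            O.Nodup ∧ (∀ l ∈ O, (t.ins new).has l = false) := by
          cases hb : Nat.beq (Nat.div c 512) 1 with
          | false =>
            rw [hb] at h
            exact ih _ _ _ _ h hst'
          | true =>
            rw [hb] at h
            simp only [cond_true] at h
            cases cs with
            | nil => exact ih _ _ _ _ h hst'
            | cons d ds => exact ih _ _ _ _ h hst'
        obtain ⟨O, h1, h2, h3, h4⟩ := key
        refine ⟨new :: O, by simp [h1], ?_, ?_, ?_⟩
        · intro l hl
          rcases List.mem_cons.1 hl with rfl | hl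
          · exact hnewS
          · exact h2 l hl
        · rw [List.nodup_cons]
          refine ⟨?_, h3⟩
          intro hmem
          have h6 := h4 new hmem
          rw [BST.has_ins] at h6
          simp at h6
        · intro l hl
          rcases List.mem_cons.1 hl with rfl | hl
          · exact hq
          · have h6 := h4 l hl
            rw [BST.has_ins] at h6
            simp only [Bool.or_eq_false_iff] at h6
            exact h6.2

/-- The tree of a list of numbers. -/
def treeOf : List ℕ → BST
  | [] => .leaf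
  | a :: l => (treeOf l).ins a

theorem treeOf_has {l : List ℕ} {a : ℕ} (h : a ∈ l) : (treeOf l).has a = true := by
  induction l with
  | nil => simp at h
  | cons b l ih =>
    rw [treeOf, BST.has_ins]
    rcases List.mem_cons.1 h with rfl | h
    · simp
    · rw [ih h]
      simp

/-- A run from a list of roots gives a list of distinct vectors. -/
theorem run_list {K : Subgroup Co0} {gens : List (ℕ → ℕ)} (H : ∀ f ∈ gens, GenP K f) (roots : List ℕ) (hnd : roots.Nodup)
    (hr : ∀ l ∈ roots, vecN l ∈ leechLattice ∧ l < 32 ^ 24) (fuel : ℕ) (cs : List ℕ) (c : ℕ)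
    (hrun : runK gens fuel cs c roots (treeOf roots) = true) :
    ∃ F : List ℕ, F.length = fuel + roots.length ∧ F.Nodup ∧
      ∀ l ∈ F, vecN l ∈ leechLattice ∧ l < 32 ^ 24 ∧ ∃ r ∈ roots, SameIn K (vecN r) (vecN l) := by
  obtain ⟨O, h1, h2, h3, h4⟩ := runK_soundP H (fun x => ∃ r ∈ roots, SameIn K (vecN r) x)
    (fun x y ⟨r, hr', hx⟩ hxy => ⟨r, hr', hx.trans hxy⟩) fuel cs c roots (treeOf roots) hrun (by
      intro l hl
      exact ⟨⟨l, hl, SameIn.refl (hr l hl).1⟩, (hr l hl).1, (hr l hl).2⟩)
  refine ⟨O ++ roots, by simp [h1], ?_, ?_⟩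
  · rw [List.nodup_append]
    refine ⟨h3, hnd, ?_⟩
    intro a ha b hb e
    subst e
    have := h4 a ha
    rw [treeOf_has hb] at this
    exact absurd this (by simp)
  · intro l hl
    rcases List.mem_append.1 hl with hl | hl
    · obtain ⟨a, b, d⟩ := h2 l hl
      exact ⟨b, d, a⟩
    · exact ⟨(hr l hl).1, (hr l hl).2, l, hl, SameIn.refl (hr l hl).1⟩

/-- A run gives a lower bound for the order of the group. -/
theorem card_of_run {K : Subgroup Co0} [Finite K] {gens : List (ℕ → ℕ)} (H : ∀ f ∈ gens, GenP K f) (root : ℕ)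
    (hr : vecN root ∈ leechLattice) (hb : root < 32 ^ 24) (fuel : ℕ) (cs : List ℕ) (c : ℕ)
    (hrun : runK gens fuel cs c [root] (treeOf [root]) = true) : fuel + 1 ≤ Nat.card K := by
  classical
  obtain ⟨F, h1, h2, h3⟩ := run_list H [root] (by simp) (by simpa using ⟨hr, hb⟩) fuel cs c hrun
  have _ := Fintype.ofFinite K
  let φ : K → (GolayPt → ℤ) := fun g => ((g : Co0) • (⟨vecN root, hr⟩ : leechLattice) : leechLattice)
  have hsub : (F.map vecN).toFinset ⊆ Finset.univ.image φ := by
    intro y hy
    obtain ⟨l, hl, rfl⟩ := List.mem_map.1 (List.mem_toFinset.1 hy)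
    obtain ⟨-, -, r, hr', hS⟩ := h3 l hl
    rw [List.mem_singleton] at hr'
    subst hr'
    obtain ⟨hx, hy', g, hg, e⟩ := hS
    exact Finset.mem_image.2 ⟨⟨g, hg⟩, Finset.mem_univ _, congrArg Subtype.val e⟩
  have hnd : (F.map vecN).Nodup := by
    refine List.Nodup.map_on ?_ h2
    intro a ha b hb' e
    exact vecN_inj (h3 a ha).2.1 (h3 b hb').2.1 e
  have h4 := Finset.card_le_card hsub
  rw [List.toFinset_card_of_nodup hnd, List.length_map, h1] at h4
  have h5 : (Finset.univ.image φ).card ≤ Fintype.card K := Finset.card_image_le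
  rw [Nat.card_eq_fintype_card]
  simp only [List.length_singleton] at h4
  omega

end Cfsg.Agent.Lib.Sporadic.Co3Mult
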