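import Cfsg.Agent.Lib.Sporadic.Co3Mult.Walk
import Cfsg.Agent.Lib.Sporadic.Co3Mult.Count
import Cfsg.Agent.Lib.Sporadic.LeechGroups
import Cfsg.Agent.Lib.Compute.SchurM23

/-!
# The stabiliser in `Co₃` of a vector of norm 64 is `M₂₃`
-/

set_option autoImplicit false

namespace Cfsg.Agent.Lib.Sporadic.Co3Mult

open MulAction Cfsg Cfsg.Agent.Lib.Sporadic.GolayCore Cfsg.Agent.Lib.Sporadic.LeechBasic
  Cfsg.Agent.Lib.Sporadic.LeechNorm Cfsg.Agent.Lib.Sporadic.LeechFacts
  Cfsg.Agent.Lib.Sporadic.LeechAut Cfsg.Agent.Lib.Sporadic.LeechMat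
  Cfsg.Agent.Lib.Sporadic.LeechKey Cfsg.Agent.Lib.Sporadic.LeechMonomial Cfsg.Agent.Lib.Sporadic.LeechAct
  Cfsg.Agent.Lib.Sporadic.LeechGroups

/-- The group `Co₃`, as a subgroup of `Co0`. -/
abbrev G3 : Subgroup Co0 := stabilizer Co0 Spor.leechV

/-- The subgroup `M₂₃`. -/
noncomputable abbrev Kc : Subgroup ↥G3 := stabilizer ↥G3 v8

theorem permCo0_mul {σ τ : Equiv.Perm GolayPt} (hσ : σ ∈ M24) (hτ : τ ∈ M24) :
    permCo0 (σ * τ) (mul_mem hσ hτ) = permCo0 σ hσ * permCo0 τ hτ := by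
  apply co0_ext_u8
  intro i
  apply Subtype.ext
  rfl

theorem permV_single (σ : Equiv.Perm GolayPt) (i : GolayPt) (a : ℤ) :
    permV σ (Pi.single i a) = Pi.single (σ i) a := by
  funext k
  simp only [permV]
  by_cases hk : k = σ i
  · subst hk
    simp
  · have h1 : σ.symm k ≠ i := by
      intro h; apply hk; rw [← h]; simp
    simp only [Pi.single_eq_of_ne h1, Pi.single_eq_of_ne hk]

theorem permCo0_inj {σ τ : Equiv.Perm GolayPt} {hσ : σ ∈ M24} {hτ : τ ∈ M24} (h : permCo0 σ hσ = permCo0 τ hτ) : σ = τ := by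
  apply Equiv.ext
  intro i
  have h1 := congrArg (fun g : Co0 => ((g • u8 i : leechLattice) : GolayPt → ℤ)) h
  have h2 : permV σ (Pi.single i 8) = permV τ (Pi.single i 8) := h1
  rw [permV_single, permV_single] at h2
  have h3 := congrFun h2 (σ i)
  by_contra hne
  simp only [Pi.single_eq_same, Pi.single_eq_of_ne hne] at h3
  omega

theorem perm_fix_V {π : Equiv.Perm GolayPt} (hπ : π ∈ M24) (h0 : π none = none) : permCo0 π hπ • Spor.leechV = Spor.leechV := by
  apply Subtype.ext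
  funext i
  show Spor.vecV (π.symm i) = Spor.vecV i
  unfold Spor.vecV
  have h1 : π.symm i = none ↔ i = none := by
    constructor
    · intro h
      rw [← π.apply_symm_apply i, h, h0]
    · rintro rfl
      calc π.symm none = π.symm (π none) := by rw [h0]
        _ = none := π.symm_apply_apply none
  by_cases h : i = none
  · rw [if_pos (h1.2 h), if_pos h]
  · rw [if_neg (fun e => h (h1.1 e)), if_neg h]

theorem perm_fix_v8 {π : Equiv.Perm GolayPt} (hπ : π ∈ M24) (h0 : π none = none) : permCo0 π hπ • v8 = v8 := by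
  apply Subtype.ext
  show permV π (Pi.single none 8) = Pi.single none 8
  rw [permV_single, h0]

/-- The map from `M₂₃`. -/
noncomputable def ofM23 : ↥Spor.M23 →* ↥Kc where
  toFun π := ⟨⟨permCo0 π.1 π.2.1, perm_fix_V π.2.1 π.2.2⟩, perm_fix_v8 π.2.1 π.2.2⟩
  map_one' := by
    apply Subtype.ext
    apply Subtype.ext
    apply co0_ext_u8
    intro i
    apply Subtype.ext
    rfl
  map_mul' a b := by
    apply Subtype.ext
    apply Subtype.ext
    exact permCo0_mul a.2.1 b.2.1

theorem ofM23_inj : Function.Injective ofM23 := by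
  intro a b h
  have h1 : permCo0 a.1 a.2.1 = permCo0 b.1 b.2.1 := congrArg (fun z : ↥Kc => ((z : ↥G3) : Co0)) h
  exact Subtype.ext (permCo0_inj h1)

theorem ofM23_surj : Function.Surjective ofM23 := by
  rintro ⟨⟨g, hV⟩, h8⟩
  have hV' : g • Spor.leechV = Spor.leechV := hV
  have h8' : g • v8 = v8 := h8
  have hN : g ∈ N := by
    rw [mem_N_iff_v8, h8']
  obtain ⟨⟨σ, c⟩, hp⟩ := monoEquiv.surjective ⟨g, mem_N_iff_pres.1 hN⟩
  have hg : monoElt σ c = g := congrArg Subtype.val hp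
  -- the permutation fixes the point
  have hs : ∀ v : leechLattice, ((g • v : leechLattice) : GolayPt → ℤ) = signedPerm σ.1 c.1 v := by
    intro v
    rw [← hg]
    rfl
  have h1 : signedPerm σ.1 c.1 (Pi.single none 8) = Pi.single none 8 := by
    have h3 := hs v8
    rw [h8'] at h3
    exact h3.symm
  rw [signedPerm_single] at h1
  have h0 : σ.1 none = none := by
    by_contra hne
    have h2 := congrFun h1 none
    rw [Pi.single_eq_same, Pi.single_eq_of_ne (Ne.symm hne)] at h2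
    omega
  -- there are no signs
  have h2 : ∀ i, i ∉ c.1 := by
    intro i hi
    have h3 := congrFun (hs Spor.leechV) i
    rw [hV'] at h3
    have h4 : Spor.vecV i = signedPerm σ.1 c.1 Spor.vecV i := h3
    simp only [signedPerm, if_pos hi] at h4
    unfold Spor.vecV at h4
    split_ifs at h4 <;> omega
  have hc : c.1 = ∅ := Finset.eq_empty_of_forall_notMem h2
  refine ⟨⟨σ.1, σ.2, h0⟩, ?_⟩
  apply Subtype.ext
  apply Subtype.ext
  show permCo0 σ.1 σ.2 = g
  apply co0_ext_u8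
  intro i
  apply Subtype.ext
  rw [hs]
  show permV σ.1 (u8 i : GolayPt → ℤ) = signedPerm σ.1 c.1 (u8 i : GolayPt → ℤ)
  rw [hc]
  funext k
  simp [permV, signedPerm]

/-- The stabiliser is `M₂₃`. -/
noncomputable def equivM23 : ↥Spor.M23 ≃* ↥Kc := MulEquiv.ofBijective ofM23 ⟨ofM23_inj, ofM23_surj⟩

theorem card_Kc : Nat.card Kc = 10200960 := by
  rw [← Nat.card_congr equivM23.toEquiv]
  exact Cfsg.Agent.Lib.Compute.SchurM23.card_G

theorem perf_Kc : commutator Kc = ⊤ :=
  Cfsg.Agent.Lib.Compute.SchurLin.commutator_top_of_equiv equivM23.symm Cfsg.Agent.Lib.Compute.SchurM23.hperf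

theorem triv_Kc : Cfsg.Agent.Lib.Compute.SchurLin.TrivMult Kc :=
  Cfsg.Agent.Lib.Compute.SchurLin.TrivMult.of_equiv equivM23.symm Cfsg.Agent.Lib.Compute.SchurM23.trivMult

theorem card_G3 : Nat.card G3 = 495766656000 := by
  obtain ⟨e⟩ := exists_conj_stab (u := Spor.leechV) (g0 := 1) (c := Spor.leechV) (one_smul _ _)
  rw [← Nat.card_congr e.toEquiv]
  exact card_Co3

/-- `Co₃` in the definition is the same group. -/
theorem equiv_Co3 : Nonempty (↥Spor.Co3 ≃* ↥G3) :=
  exists_conj_stab (u := Spor.leechV) (g0 := 1) (c := Spor.leechV) (one_smul _ _)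

instance : Finite ↥G3 := Nat.finite_of_card_ne_zero (by rw [card_G3]; norm_num)

/-- The orbit has the right size. -/
theorem ncard_orbit : (orbit ↥G3 v8).ncard = 48600 := by
  have h := card_inf_mul (G := ↥G3) (⊤ : Subgroup ↥G3) v8
  have e1 : Nat.card ↥((⊤ : Subgroup ↥G3) ⊓ stabilizer ↥G3 v8) = 10200960 := by
    rw [top_inf_eq]
    exact card_Kc
  have e2 : Nat.card ↥(⊤ : Subgroup ↥G3) = 495766656000 := by
    rw [Subgroup.card_top]
    exact card_G3
  have e3 : orbit ↥(⊤ : Subgroup ↥G3) v8 = orbit ↥G3 v8 := by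
    ext y
    constructor
    · rintro ⟨g, rfl⟩
      exact ⟨g.1, rfl⟩
    · rintro ⟨g, rfl⟩
      exact ⟨⟨g, trivial⟩, rfl⟩
  rw [e1, e2, e3] at h
  omega

end Cfsg.Agent.Lib.Sporadic.Co3Mult
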